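import Mathlib.Algebra.Polynomial.RingDivision
import Mathlib.Algebra.Polynomial.Derivative
import Mathlib.LinearAlgebra.Charpoly.Basic
import Mathlib.LinearAlgebra.Determinant
import Mathlib.RingTheory.Localization.Away.Basic
import Mathlib.RingTheory.Coprime.Lemmas
import Mathlib.Analysis.Complex.Basic

/-! Logarithmic connections on the affine line over a base: pole reduction along disjoint sections. -/

open Polynomial

namespace Groth.Agent.LogConn

universe u

variable {R : Type u} [CommRing R] {d r : ℕ} {θ : Fin r → R} {Θ : R[X]}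

/-- No nonzero integer root of a characteristic polynomial with complex coefficients. -/
theorem bijective_res_sub [Algebra ℂ R] (Res : (Fin d → R) →ₗ[R] (Fin d → R))
    (hχ : ∃ χ : ℂ[X], Res.charpoly = χ.map (algebraMap ℂ R) ∧
      ∀ n : ℤ, n ≠ 0 → χ.eval (n : ℂ) ≠ 0) (n : ℕ) (hn : n ≠ 0) :
    Function.Bijective (fun m : Fin d → R => Res m - (n : R) • m) := by
  obtain ⟨χ, hχ, hroot⟩ := hχ
  have h0 : χ.eval (n : ℂ) ≠ 0 := by simpa using hroot (n : ℤ) (by exact_mod_cast hn)
  have hdet : IsUnit (LinearMap.det ((n : R) • (1 : Module.End R (Fin d → R)) - Res)) := by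
    have e := Res.eval_charpoly (n : R)
    rw [hχ, Polynomial.eval_map, ← map_natCast (algebraMap ℂ R) n,
      Polynomial.eval₂_at_apply] at e
    have h2 := (isUnit_iff_ne_zero.2 h0).map (algebraMap ℂ R)
    rw [e] at h2
    convert h2 using 2
    simp [Nat.cast_smul_eq_nsmul, nsmul_one]
  obtain ⟨e, he⟩ : ∃ e : (Fin d → R) ≃ₗ[R] (Fin d → R),
      (e : (Fin d → R) →ₗ[R] (Fin d → R)) = (n : R) • (1 : Module.End R (Fin d → R)) - Res :=
    ⟨LinearEquiv.ofIsUnitDet (v := Pi.basisFun R (Fin d)) (v' := Pi.basisFun R (Fin d))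
      (by rwa [LinearMap.det_toMatrix]), rfl⟩
  have hval : ∀ m, Res m - (n : R) • m = e.trans (LinearEquiv.neg R) m := fun m => by
    rw [LinearEquiv.trans_apply, LinearEquiv.neg_apply, ← LinearEquiv.coe_coe, he]
    simp
  simp only [hval]
  exact (e.trans (LinearEquiv.neg R)).bijective

theorem isUnit_prod (hθ : ∀ i k, i ≠ k → IsUnit (θ i - θ k)) (i : Fin r) :
    IsUnit (∏ k ∈ Finset.univ.erase i, (θ i - θ k)) :=
  IsUnit.prod_iff.2 fun _ hk => hθ _ _ (Finset.ne_of_mem_erase hk).symm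

theorem eval_derivative_theta (hΘ : Θ = ∏ i, (X - C (θ i))) (i : Fin r) :
    Θ.derivative.eval (θ i) = ∏ k ∈ Finset.univ.erase i, (θ i - θ k) := by
  classical
  rw [hΘ, ← Finset.mul_prod_erase _ _ (Finset.mem_univ i), derivative_mul]
  simp [eval_prod]

/-- A vector vanishing at every section is divisible by `Θ`. -/
theorem exists_smul_eq (hθ : ∀ i k, i ≠ k → IsUnit (θ i - θ k)) (hΘ : Θ = ∏ i, (X - C (θ i)))
    (v : Fin d → R[X]) (hv : ∀ i j, (v j).eval (θ i) = 0) : ∃ v' : Fin d → R[X], v = Θ • v' := by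
  have h : ∀ j, Θ ∣ v j := fun j => by
    rw [hΘ]
    exact Fintype.prod_dvd_of_coprime
      (fun i k hik => Polynomial.isCoprime_X_sub_C_of_isUnit_sub (hθ i k hik))
      fun i => dvd_iff_isRoot.2 (hv i j)
  choose v' hv' using h
  exact ⟨v', funext hv'⟩

section

variable (D₀ : (Fin d → R[X]) →+ (Fin d → R[X]))
    (hD₀ : ∀ (p : R[X]) (v : Fin d → R[X]),
      D₀ (p • v) = (Θ * Polynomial.derivative p) • v + p • D₀ v)
    (Res : Fin r → ((Fin d → R) →ₗ[R] (Fin d → R)))
    (hRes : ∀ (i : Fin r) (m : Fin d → R) (j : Fin d),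
      (D₀ (fun j => Polynomial.C (m j)) j).eval (θ i) =
        (∏ k ∈ Finset.univ.erase i, (θ i - θ k)) * Res i m j)

include hD₀ hRes in
theorem eval_D₀ (hΘ : Θ = ∏ i, (X - C (θ i))) (u : Fin d → R[X]) (i : Fin r) (j : Fin d) :
    (D₀ u j).eval (θ i) =
      (∏ k ∈ Finset.univ.erase i, (θ i - θ k)) * Res i (fun l => (u l).eval (θ i)) j := by
  classical
  have hz : Θ.eval (θ i) = 0 := by
    rw [hΘ, eval_prod]; exact Finset.prod_eq_zero (Finset.mem_univ i) (by simp)
  have h : ∀ l, (X - C (θ i)) ∣ u l - C ((u l).eval (θ i)) := fun l =>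
    dvd_iff_isRoot.2 (by simp)
  choose q hq using h
  have hu : u = (fun l => C ((u l).eval (θ i))) + (X - C (θ i)) • q := by
    funext l
    rw [Pi.add_apply, Pi.smul_apply, smul_eq_mul, ← hq l]; ring
  conv_lhs => rw [hu, map_add, hD₀]
  simp only [Pi.add_apply, Pi.smul_apply, smul_eq_mul, eval_add, eval_mul, hz, eval_sub, eval_X,
    eval_C, sub_self, zero_mul, add_zero, hRes]

/-- The polynomial numerator of `D (u / Θ^n)`. -/
noncomputable def num (n : ℕ) (u : Fin d → R[X]) : Fin d → R[X] :=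
  D₀ u - ((n : R[X]) * Θ.derivative) • u

include hD₀ hRes in
theorem eval_num (hΘ : Θ = ∏ i, (X - C (θ i))) (n : ℕ) (u : Fin d → R[X]) (i : Fin r) (j : Fin d) :
    (num (Θ := Θ) D₀ n u j).eval (θ i) = (∏ k ∈ Finset.univ.erase i, (θ i - θ k)) *
      (Res i (fun l => (u l).eval (θ i)) - (n : R) • fun l => (u l).eval (θ i)) j := by
  simp only [num, Pi.sub_apply, Pi.smul_apply, smul_eq_mul, eval_sub, eval_mul, eval_natCast,
    eval_derivative_theta hΘ, eval_D₀ D₀ hD₀ Res hRes hΘ]
  ring

end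

section

variable (D₀ : (Fin d → R[X]) →+ (Fin d → R[X]))
    (D : (Fin d → Localization.Away Θ) →+ (Fin d → Localization.Away Θ))
    (hD : ∀ (p : R[X]) (w : Fin d → Localization.Away Θ),
      D (p • w) = (Θ * Polynomial.derivative p) • w + p • D w)
    (hDD₀ : ∀ v : Fin d → R[X],
      D (fun j => algebraMap R[X] (Localization.Away Θ) (v j)) =
        fun j => algebraMap R[X] (Localization.Away Θ) (D₀ v j))

/-- The vector `u / Θ^n`. -/
noncomputable def frac (n : ℕ) (u : Fin d → R[X]) : Fin d → Localization.Away Θ :=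
  fun j => IsLocalization.mk' _ (u j) (⟨Θ ^ n, n, rfl⟩ : Submonoid.powers Θ)

theorem smul_frac (n : ℕ) (u : Fin d → R[X]) :
    (Θ ^ n) • frac (Θ := Θ) n u = fun j => algebraMap R[X] (Localization.Away Θ) (u j) := by
  funext j
  rw [Pi.smul_apply, Algebra.smul_def]
  exact IsLocalization.mk'_spec' (Localization.Away Θ) (u j) (⟨Θ ^ n, n, rfl⟩ : Submonoid.powers Θ)

theorem smul_pow_injective (n : ℕ) {w w' : Fin d → Localization.Away Θ}
    (h : (Θ ^ n) • w = (Θ ^ n) • w') : w = w' := by
  funext j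
  have := congrFun h j
  simp only [Pi.smul_apply, Algebra.smul_def] at this
  exact (IsLocalization.map_units (Localization.Away Θ)
    (⟨Θ ^ n, n, rfl⟩ : Submonoid.powers Θ)).mul_left_cancel this

theorem frac_succ (n : ℕ) (u : Fin d → R[X]) : frac (Θ := Θ) (n + 1) (Θ • u) = frac n u := by
  refine smul_pow_injective (n + 1) ?_
  rw [smul_frac, pow_succ', mul_smul, smul_frac]
  funext j
  simp [Algebra.smul_def]

theorem frac_zero (u : Fin d → R[X]) :
    frac (Θ := Θ) 0 u = fun j => algebraMap R[X] (Localization.Away Θ) (u j) := by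
  rw [← smul_frac 0 u, pow_zero, one_smul]

theorem frac_add (n : ℕ) (u v : Fin d → R[X]) :
    frac (Θ := Θ) n (u + v) = frac n u + frac n v := by
  refine smul_pow_injective n ?_
  rw [smul_add, smul_frac, smul_frac, smul_frac]
  funext j
  simp

theorem exists_frac (w : Fin d → Localization.Away Θ) :
    ∃ (n : ℕ) (u : Fin d → R[X]), w = frac n u := by
  obtain ⟨⟨_, n, rfl⟩, hb⟩ := IsLocalization.exist_integer_multiples_of_finite
    (Submonoid.powers Θ) w
  choose u hu using hb
  refine ⟨n, u, smul_pow_injective n ?_⟩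
  rw [smul_frac]
  funext j
  exact (hu j).symm

include hD hDD₀ in
theorem D_frac (n : ℕ) (u : Fin d → R[X]) :
    D (frac n u) = frac n (num (Θ := Θ) D₀ n u) := by
  refine smul_pow_injective n ?_
  have h := hD (Θ ^ n) (frac n u)
  rw [smul_frac, hDD₀] at h
  have e : Θ * derivative (Θ ^ n) = ((n : R[X]) * Θ.derivative) * Θ ^ n := by
    rw [derivative_pow]
    rcases n with _ | m
    · simp
    · simp [pow_succ]; ring
  rw [e, mul_smul, smul_frac] at h
  rw [smul_frac]
  funext j
  have hj := congrFun h j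
  simp only [Pi.add_apply, Pi.smul_apply] at hj ⊢
  simp only [Algebra.smul_def] at hj ⊢
  simp only [num, Pi.sub_apply, Pi.smul_apply, smul_eq_mul, map_sub, map_mul, map_natCast] at hj ⊢
  rw [hj]; ring

end

end Groth.Agent.LogConn
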